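import Groth.Agent.CAlgSmall.QAmple
import Groth.Agent.TwistLib.G.RelGen

/-!
# Functions on standard opens of a relative Proj and their pullbacks along the induced morphism
-/

set_option linter.unusedSectionVars false
set_option autoImplicit false
set_option backward.isDefEq.respectTransparency.types false
set_option maxHeartbeats 100000

universe u

open CategoryTheory CategoryTheory.Limits AlgebraicGeometry TopologicalSpace Opposite HomogeneousLocalization
open scoped HomogeneousIdeal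
open Groth.Agent.Coherent Groth.Agent.PicLib Groth.Agent.QProj

namespace Groth.Agent.RTwist13

theorem appLE_congr_hom {X Y : Scheme.{u}} {f g : X ⟶ Y} (e : f = g) (U : Y.Opens) (V : X.Opens)
    (h : V ≤ f ⁻¹ᵁ U) (h' : V ≤ g ⁻¹ᵁ U) : f.appLE U V h = g.appLE U V h' := by
  subst e; rfl

theorem comp_appLE_apply {A B C : Scheme.{u}} (f : A ⟶ B) (g : B ⟶ C) (U : C.Opens) (V : B.Opens) (W : A.Opens)
    (h1 : V ≤ g ⁻¹ᵁ U) (h2 : W ≤ f ⁻¹ᵁ V) (h3 : W ≤ (f ≫ g) ⁻¹ᵁ U) (x : Γ(C, U)) (y : Γ(B, V))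
    (hx : g.appLE U V h1 x = y) : (f ≫ g).appLE U W h3 x = f.appLE V W h2 y := by
  rw [← hx, ← ConcreteCategory.comp_apply, Scheme.Hom.appLE_comp_appLE]

/-- The sections of a standard open, pulled back to its chart. -/
theorem awayι_appLE {A σ : Type u} [CommRing A] [SetLike σ A] [AddSubgroupClass σ A] {𝒜 : ℕ → σ} [GradedRing 𝒜]
    {f : A} {m : ℕ} (hf : f ∈ 𝒜 m) (hm : 0 < m)
    (h : (⊤ : (Spec (CommRingCat.of (Away 𝒜 f))).Opens) ≤ Proj.awayι 𝒜 f hf hm ⁻¹ᵁ Proj.basicOpen 𝒜 f)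
    (z : Away 𝒜 f) :
    (Proj.awayι 𝒜 f hf hm).appLE (Proj.basicOpen 𝒜 f) ⊤ h (Proj.awayToSection 𝒜 f z) =
      (Scheme.ΓSpecIso (CommRingCat.of (Away 𝒜 f))).inv z := by
  let e := Proj.basicOpenIsoSpec 𝒜 f hf hm
  let O := Proj.basicOpen 𝒜 f
  have h1 : e.hom.app ⊤ = (Scheme.ΓSpecIso _).hom ≫ Proj.awayToSection 𝒜 f ≫ O.topIso.inv := by
    rw [show e.hom = Proj.basicOpenToSpec 𝒜 f from Proj.basicOpenIsoSpec_hom 𝒜 f hf hm]
    exact Proj.basicOpenToSpec_app_top 𝒜 f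
  have h2 : (Proj.awayι 𝒜 f hf hm).appLE O ⊤ h = O.topIso.inv ≫ e.inv.appTop := by
    show (e.inv ≫ O.ι).appLE O ⊤ _ = _
    rw [← Scheme.Hom.appLE_comp_appLE e.inv O.ι O ⊤ ⊤ (Scheme.Opens.ι_preimage_self O).ge (fun a _ => trivial)]
    congr 1
  have h3 : e.hom.appTop ≫ e.inv.appTop = 𝟙 _ := by
    rw [← Scheme.Hom.comp_appTop, e.inv_hom_id]
    rfl
  rw [h2]
  have h4 := ConcreteCategory.congr_hom h3 ((Scheme.ΓSpecIso (CommRingCat.of (Away 𝒜 f))).inv z)
  rw [ConcreteCategory.comp_apply, show e.hom.appTop = e.hom.app ⊤ from rfl, h1] at h4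
  refine Eq.trans ?_ h4
  show e.inv.appTop (O.topIso.inv (Proj.awayToSection 𝒜 f z)) =
    e.inv.appTop (O.topIso.inv (Proj.awayToSection 𝒜 f ((Scheme.ΓSpecIso _).hom ((Scheme.ΓSpecIso _).inv z))))
  rw [← ConcreteCategory.comp_apply (Scheme.ΓSpecIso (CommRingCat.of (Away 𝒜 f))).inv, Iso.inv_hom_id]
  rfl

variable {Y X P PL : Scheme.{u}} {q : X ⟶ Y} {L : X.Modules} {𝒮 : RelProj.QCGrAlg Y} {𝒮L : RelProj.QCGrAlg X}
  {j : L ⟶ 𝒮L.toModule} [Coh.IsQCoh L]
  (u : RelProj.QGrHom q 𝒮 𝒮L) {p : P ⟶ Y}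
  {chart : ∀ (U : Y.Opens) (hU : IsAffineOpen U), (((p ⁻¹ᵁ U : P.Opens) : Scheme.{u}) ≅ Proj (𝒮.deg U hU))}
  (hP : RelProj.IsRelProj 𝒮 p chart) {pL : PL ⟶ X}
  {chartL : ∀ (U : X.Opens) (hU : IsAffineOpen U), (((pL ⁻¹ᵁ U : PL.Opens) : Scheme.{u}) ≅ Proj (𝒮L.deg U hU))}
  (hPL : RelProj.IsRelProj 𝒮L pL chartL)
  {r : (RelProj.domQ u pL chartL).toScheme ⟶ P}
  (hr : RelProj.IsProjQMapOn u p chart pL chartL (RelProj.domQ u pL chartL) r)
  {U : Y.Opens} (hU : IsAffineOpen U) {n : ℕ} (hn : 0 < n) {s : 𝒮.presheaf.obj (op U)} (hs : s ∈ 𝒮.deg U hU n)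
  [IsIso pL] {XT : X.Opens} (h : IsSOpen u chartL U hU s XT)

include hP hPL hr hn hs h in
/-- A homogeneous fraction is a function on the standard open; its pullback is the function given by `theta`. -/
theorem exists_function (z : Away (𝒮.deg U hU) s) :
    ∃ (c : Γ(P, nz chart U hU s)),
      (RelProj.emb p chart U hU).appLE (nz chart U hU s) (Proj.basicOpen (𝒮.deg U hU) s)
        ((RelProj.emb p chart U hU).preimage_image_eq _).ge c = Proj.awayToSection (𝒮.deg U hU) s z ∧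
      ∀ (W : (RelProj.domQ u pL chartL).toScheme.Opens) (h1 : W ≤ r ⁻¹ᵁ nz chart U hU s)
        (h2 : W ≤ ((RelProj.domQ u pL chartL).ι ≫ pL) ⁻¹ᵁ XT),
        r.appLE (nz chart U hU s) W h1 c =
          ((RelProj.domQ u pL chartL).ι ≫ pL).appLE XT W h2 ((theta u hP hPL hr hU hn hs h).hom z) := by
  let ef := RelProj.emb p chart U hU
  let O := nz chart U hU s
  have hle : Proj.basicOpen (𝒮.deg U hU) s ≤ ef ⁻¹ᵁ O := (ef.preimage_image_eq _).ge
  have hiso : IsIso (ef.appLE O (Proj.basicOpen (𝒮.deg U hU) s) hle) := by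
    rw [Scheme.Hom.appLE]
    have : IsIso (ef.app O) := ef.isIso_app _ (ef.image_le_opensRange _)
    have : IsIso ((Proj (𝒮.deg U hU)).presheaf.map (homOfLE hle).op) := by
      have e0 : Proj.basicOpen (𝒮.deg U hU) s = ef ⁻¹ᵁ O := (ef.preimage_image_eq _).symm
      rw [show (homOfLE hle).op = eqToHom (congrArg op e0.symm) from Subsingleton.elim _ _, eqToHom_map]
      infer_instance
    infer_instance
  obtain ⟨c, hc⟩ := (ConcreteCategory.bijective_of_isIso (ef.appLE O _ hle)).2 (Proj.awayToSection _ s z)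
  refine ⟨c, hc, ?_⟩
  let dom := RelProj.domQ u pL chartL
  let ρ := dom.ι ≫ pL
  let σ := sMap u hPL hU hn hs h
  have hσρ : σ ≫ ρ = XT.ι := by
    show σ ≫ dom.ι ≫ pL = _
    rw [sMap_ι_assoc, IsIso.inv_hom_id, Category.comp_id]
  let W₀ := r ⁻¹ᵁ O
  have hW₀ : σ.opensRange = W₀ := opensRange_sMap u hP hPL hr hU hn hs h
  have hρW : W₀ ≤ ρ ⁻¹ᵁ XT := fun w hw => by
    rw [← hW₀] at hw
    obtain ⟨x, rfl⟩ := hw
    show ρ (σ x) ∈ XT
    rw [← Scheme.Hom.comp_apply, hσρ]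
    exact x.2
  have hσW : (⊤ : XT.toScheme.Opens) ≤ σ ⁻¹ᵁ W₀ := fun x _ => hW₀.le ⟨x, rfl⟩
  let t := (theta u hP hPL hr hU hn hs h).hom z
  have key : r.appLE O W₀ le_rfl c = ρ.appLE XT W₀ hρW t := by
    have hinj : Function.Injective (σ.appLE W₀ ⊤ hσW) := by
      have : IsIso (σ.appLE W₀ ⊤ hσW) := by
        rw [Scheme.Hom.appLE]
        have : IsIso (σ.app W₀) := σ.isIso_app _ hW₀.ge
        have : IsIso (XT.toScheme.presheaf.map (homOfLE hσW).op) := by
          rw [show (homOfLE hσW).op = eqToHom (congrArg op (top_le_iff.1 hσW)) from Subsingleton.elim _ _,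
            eqToHom_map]
          infer_instance
        infer_instance
      exact (ConcreteCategory.bijective_of_isIso _).1
    refine hinj ?_
    rw [← ConcreteCategory.comp_apply, ← ConcreteCategory.comp_apply, Scheme.Hom.appLE_comp_appLE,
      Scheme.Hom.appLE_comp_appLE]
    let τ := toChart u hP hPL hr hU hn hs h
    let nM := nzMap chart U hU hn hs
    have hnM : (⊤ : (Spec (CommRingCat.of (Away (𝒮.deg U hU) s))).Opens) ≤ nM ⁻¹ᵁ O := fun x _ =>
      (opensRange_nzMap (chart := chart) U hU hn hs).le (Set.mem_range_self (f := nM) x)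
    have haw : (⊤ : (Spec (CommRingCat.of (Away (𝒮.deg U hU) s))).Opens) ≤
        Proj.awayι (𝒮.deg U hU) s hs hn ⁻¹ᵁ Proj.basicOpen (𝒮.deg U hU) s := fun x _ =>
      (Proj.opensRange_awayι (𝒮.deg U hU) s hs hn).le
        (Set.mem_range_self (f := Proj.awayι (𝒮.deg U hU) s hs hn) x)
    have e1 : nM.appLE O ⊤ hnM c = (Scheme.ΓSpecIso (CommRingCat.of (Away (𝒮.deg U hU) s))).inv z := by
      have h5 := comp_appLE_apply (Proj.awayι (𝒮.deg U hU) s hs hn) ef O (Proj.basicOpen (𝒮.deg U hU) s) ⊤ hle haw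
        hnM c (Proj.awayToSection (𝒮.deg U hU) s z) hc
      have h6 := awayι_appLE (𝒜 := 𝒮.deg U hU) hs hn haw z
      exact h5.trans h6
    have e2 : (σ ≫ ρ).appLE XT ⊤ (hσW.trans (σ.preimage_mono hρW)) t = XT.topIso.inv t := by
      rw [appLE_congr_hom hσρ XT ⊤ _ (Scheme.Opens.ι_preimage_self XT).ge]
      simp [Scheme.Opens.topIso_inv, Scheme.Hom.appLE, Scheme.Opens.ι_app]
      show (X.presheaf.map _ ≫ X.presheaf.map _) t = _
      rw [← Functor.map_comp]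
      exact congrArg (fun e => (X.presheaf.map e) t) (Subsingleton.elim _ _)
    rw [e2, appLE_congr_hom (toChart_fac u hP hPL hr hU hn hs h).symm O ⊤ _ (fun x _ => hnM trivial),
      ← Scheme.Hom.appLE_comp_appLE τ nM O ⊤ ⊤ hnM (fun x _ => trivial), ConcreteCategory.comp_apply, e1]
    show _ = XT.topIso.inv (XT.topIso.hom (τ.appTop ((Scheme.ΓSpecIso _).inv z)))
    rw [← ConcreteCategory.comp_apply XT.topIso.hom, Iso.hom_inv_id]
    exact ConcreteCategory.congr_hom (Scheme.Hom.app_eq_appLE _).symm _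
  intro W h1 h2
  have := congrArg (dom.toScheme.presheaf.map (homOfLE h1).op) key
  rw [← ConcreteCategory.comp_apply, ← ConcreteCategory.comp_apply, Scheme.Hom.appLE_map, Scheme.Hom.appLE_map] at this
  exact this

end Groth.Agent.RTwist13
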