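import Groth.Agent.TwistLib.G.Gen
import Groth.Agent.PicLib.PullbackGen

/-!
# A fraction of units generates a twisting sheaf
-/

set_option autoImplicit false
set_option linter.unusedSectionVars false

universe u

open AlgebraicGeometry CategoryTheory TopologicalSpace Opposite
open Groth.Agent.ProjLib Groth.Agent.Coherent Groth.Agent.PicLib Groth.Agent.AmpleLib Groth.Agent.TwistLib.G

namespace Groth.Agent.RTwist13

variable {A σ : Type u} [CommRing A] [SetLike σ A] [AddSubgroupClass σ A] {𝒜 : ℕ → σ}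
  [GradedRing 𝒜] {d : ℤ} {p q : ℕ} {a : A} (ha : a ∈ 𝒜 p) {b : A} (hb : b ∈ 𝒜 q) (hpq : (p : ℤ) = q + d)

/-- The section `a / b` of `O(d)`. -/
def ab (V : Opens (ProjectiveSpectrum.top 𝒜)) (hV : V ≤ ProjectiveSpectrum.basicOpen 𝒜 (a * b)) :
    GrTwist.sectN (𝒜 := 𝒜) d (op V) :=
  fracSec d V ⟨a, ha⟩ ⟨b, hb⟩ (fun x h => hV x.2 (Ideal.mul_mem_left _ a h)) hpq

theorem isUnit_ab (V : Opens (ProjectiveSpectrum.top 𝒜)) (hV : V ≤ ProjectiveSpectrum.basicOpen 𝒜 (a * b))
    (x : V) : IsUnit ((ab ha hb hpq V hV).1 x).1 := by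
  refine IsUnit.of_mul_eq_one (Localization.mk b ⟨a, fun h => hV x.2 (Ideal.mul_mem_right b _ h)⟩) ?_
  show Localization.mk a _ * _ = 1
  rw [Localization.mk_mul]
  exact (Localization.mk_eq_mk_iff.2 (Localization.r_iff_exists.2 ⟨1, by
    simp only [Submonoid.coe_mul, Submonoid.coe_one]; ring⟩)).trans Localization.mk_one

theorem smul_ab_bijective (V : Opens (ProjectiveSpectrum.top 𝒜))
    (hV : V ≤ ProjectiveSpectrum.basicOpen 𝒜 (a * b)) :
    Function.Bijective fun g : GrTwist.O (𝒜 := 𝒜) (op V) => oSmul g (ab ha hb hpq V hV) := by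
  have hval : ∀ (g : GrTwist.O (𝒜 := 𝒜) (op V)) (x : V), ((oSmul g (ab ha hb hpq V hV)).1 x).1 =
      (g.1 x).val * ((ab ha hb hpq V hV).1 x).1 := fun g x => oSmul_val g _ x
  refine ⟨fun g g' hgg => Subtype.ext (funext fun x => HomogeneousLocalization.val_injective _ ?_),
    fun f => ?_⟩
  · exact (isUnit_ab ha hb hpq V hV x).mul_right_cancel
      ((hval g x).symm.trans ((congrArg (fun z => (Subtype.val z x).1) hgg).trans (hval g' x)))
  · have key : ∀ x : V, ∃ (W : Opens (ProjectiveSpectrum.top 𝒜)) (_ : x.1 ∈ W) (hW : W ≤ V),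
        ∃ (k : ℕ) (a b : 𝒜 k) (nin : ∀ y : W, b.1 ∉ y.1.asHomogeneousIdeal), ∀ y : W,
          Localization.mk a.1 ⟨b.1, nin y⟩ * ((ab ha hb hpq V hV).1 ⟨y.1, hW y.2⟩).1 =
            (f.1 ⟨y.1, hW y.2⟩).1 := by
      intro x
      obtain ⟨W, hxW, iW, i, j, a', s, nin, hdeg, hw⟩ := f.2 x
      rcases hdeg with h | h
      · refine ⟨W, hxW, leOfHom iW, i + q, ⟨a'.1 * b, SetLike.mul_mem_graded a'.2 hb⟩,
          ⟨s.1 * a, ?_⟩,
          fun y => Submonoid.mul_mem y.1.asHomogeneousIdeal.toIdeal.primeCompl (nin y)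
            (fun h' => hV (leOfHom iW y.2) (Ideal.mul_mem_right b _ h')), fun y => ?_⟩
        · rw [show i + q = j + p by omega]
          exact SetLike.mul_mem_graded s.2 ha
        · refine Eq.trans ?_ (hw y).symm
          show Localization.mk _ _ * Localization.mk a _ = _
          rw [Localization.mk_mul]
          exact Localization.mk_eq_mk_iff.2 (Localization.r_iff_exists.2 ⟨1, by
            simp only [Submonoid.coe_mul, Submonoid.coe_one]; ring⟩)
      · refine ⟨W, hxW, leOfHom iW, 0, 0, ⟨1, SetLike.GradedOne.one_mem⟩,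
          fun y hy => y.1.isPrime.ne_top ((Ideal.eq_top_iff_one _).mpr hy), fun y => ?_⟩
        refine Eq.trans ?_ (hw y).symm
        rw [h, Localization.mk_zero, ZeroMemClass.coe_zero, Localization.mk_zero, zero_mul]
    choose W hxW hW k a' b' nin hg using key
    let g₀ : ∀ x : V, GrTwist.A0 𝒜 x.1 := fun x =>
      HomogeneousLocalization.mk ⟨k x, a' x, b' x, nin x ⟨x.1, hxW x⟩⟩
    have hg₀ : ∀ x : V, (g₀ x).val * ((ab ha hb hpq V hV).1 x).1 = (f.1 x).1 := fun x => by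
      rw [HomogeneousLocalization.val_mk]
      exact hg x ⟨x.1, hxW x⟩
    refine ⟨⟨g₀, fun x => ⟨W x, hxW x, homOfLE (hW x), k x, a' x, b' x, fun y => nin x y,
      fun y => HomogeneousLocalization.val_injective _ ?_⟩⟩, sectN_ext fun x => ?_⟩
    · rw [HomogeneousLocalization.val_mk]
      exact (isUnit_ab ha hb hpq V hV ⟨y.1, hW x y.2⟩).mul_right_cancel
        ((hg₀ ⟨y.1, hW x y.2⟩).trans (hg x y).symm)
    · exact (hval _ x).trans (hg₀ x)

/-- `a / b` generates `O(d)` on `D₊(a b)`. -/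
theorem isGen_ab :
    IsGen (GrTwist.twist 𝒜 d) (Proj.basicOpen 𝒜 (a * b)) (ab ha hb hpq _ le_rfl) :=
  fun V hV => smul_ab_bijective ha hb hpq V hV

/-- The pullback of a generator is a generator when the pullback is invertible. -/
theorem isGen_pullSec' {T Y : Scheme.{u}} (σ : T ⟶ Y) {L : Y.Modules} {U : Y.Opens} {g : Γ(L, U)}
    (hg : IsGen L U g) (hL : PicF.IsInvertible ((Scheme.Modules.pullback σ).obj L)) :
    IsGen ((Scheme.Modules.pullback σ).obj L) (σ ⁻¹ᵁ U) (pullSec σ g) := by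
  obtain ⟨W, z, hmem, hz⟩ := exists_cover hL
  refine isGen_of_cover (fun y => (σ ⁻¹ᵁ U) ⊓ W y) (fun y => inf_le_left)
    (fun y hy => Opens.mem_iSup.2 ⟨y, hy, hmem y⟩) fun y => ?_
  have h1 := (hz y).coef_spec inf_le_right (resM _ (inf_le_left : (σ ⁻¹ᵁ U) ⊓ W y ≤ σ ⁻¹ᵁ U) (pullSec σ g))
  have hu := isUnit_of_pullSec_eq_smul σ hg inf_le_left h1.symm
  obtain ⟨w, hw⟩ := hu
  rw [← h1, ← hw]
  exact ((hz y).restrict inf_le_right).smul_unit w

end Groth.Agent.RTwist13
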