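import Groth.Agent.RTwist13.Piece
import Groth.Agent.PicTau27.Locus

/-!
# The pullback of `O_P(n)` along the morphism given by a relatively ample module
-/

set_option linter.unusedSectionVars false
set_option autoImplicit false
set_option backward.isDefEq.respectTransparency.types false
set_option maxHeartbeats 400000

universe u

open CategoryTheory CategoryTheory.Limits AlgebraicGeometry TopologicalSpace Opposite HomogeneousLocalization
open scoped HomogeneousIdeal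
open Groth.Agent.Coherent Groth.Agent.PicLib Groth.Agent.AmpleLib Groth.Agent.QProj

namespace Groth.Agent.RTwist13
open CAlgSmall.QBridge CAlgSmall.QAmple

variable {Y X P PL : Scheme.{u}} {q : X ⟶ Y} {L : X.Modules} {𝒮 : RelProj.QCGrAlg Y} {𝒮L : RelProj.QCGrAlg X}
  {j : L ⟶ 𝒮L.toModule} [Coh.IsQCoh L] (hj : RelProj.IsGrSymAlg L 𝒮L j) (hL : PicF.IsInvertible L)
  (u : RelProj.QGrHom q 𝒮 𝒮L) {p : P ⟶ Y}
  {chart : ∀ (U : Y.Opens) (hU : IsAffineOpen U), (((p ⁻¹ᵁ U : P.Opens) : Scheme.{u}) ≅ Proj (𝒮.deg U hU))}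
  (hP : RelProj.IsRelProj 𝒮 p chart)
  {pL : PL ⟶ X}
  {chartL : ∀ (U : X.Opens) (hU : IsAffineOpen U), (((pL ⁻¹ᵁ U : PL.Opens) : Scheme.{u}) ≅ Proj (𝒮L.deg U hU))}
  (hPL : RelProj.IsRelProj 𝒮L pL chartL)
  {r : (RelProj.domQ u pL chartL).toScheme ⟶ P}
  (hr : RelProj.IsProjQMapOn u p chart pL chartL (RelProj.domQ u pL chartL) r)

variable {n : ℕ} {μ : CohB1.tensorPow L n ⟶ 𝒮L.toModule}
  (hμ : ∀ (V : X.Opens) (c : Γ(X, V)) (g : Γ(L, V)), (show 𝒮L.presheaf.obj (op V) from μ.app V (c • powSec g n)) =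
    (𝒮L.str.app (op V)).hom c * gn j g ^ n)

variable {On : P.Modules}
  {lamn : ∀ (U : Y.Opens) (hU : IsAffineOpen U),
    On ⟶ (Scheme.Modules.pushforward (RelProj.emb p chart U hU)).obj (GrTwist.twist (𝒮.deg U hU) (n : ℤ))}
  (hOn : RelProj.IsRelTwist 𝒮 p chart (n : ℤ) On lamn)

variable [IsIso pL]

include hP hOn in
theorem Piece.val_res (K : Piece u chart (chartL := chartL) μ lamn) {V : Y.Opens} (hV : IsAffineOpen V) (i : V ≤ K.U)
    (hVr : ∃ r : Γ(Y, K.U), V = Y.basicOpen r) (y : ProjectiveSpectrum (𝒮.deg V hV))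
    (hy : (RelProj.emb p chart V hV).base y ∈ nz chart K.U K.hU (K.a * K.b))
    (hby : 𝒮.res K.hU hV i K.b ∉ y.asHomogeneousIdeal.toIdeal) :
    GrTwist.val (V := RelProj.emb p chart V hV ⁻¹ᵁ nz chart K.U K.hU (K.a * K.b))
      ((lamn V hV).app _ K.g) ⟨y, hy⟩ = Localization.mk (𝒮.res K.hU hV i K.a) ⟨𝒮.res K.hU hV i K.b, hby⟩ := by
  obtain ⟨t, rfl⟩ := hVr
  let y' := ProjectiveSpectrum.comap (𝒮.res K.hU (K.hU.basicOpen t) (Y.basicOpen_le t))
    (𝒮.irrelevant_le_map K.U K.hU t) y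
  have he : (RelProj.emb p chart K.U K.hU).base y' = (RelProj.emb p chart (Y.basicOpen t) hV).base y := by
    show _ = _
    rw [← RelProj.map_res_emb hP K.U K.hU t]
    rfl
  have hy' : (RelProj.emb p chart K.U K.hU).base y' ∈ nz chart K.U K.hU (K.a * K.b) := he ▸ hy
  refine (hOn.compat K.U K.hU t _ K.g y hy hy').trans ?_
  refine (congrArg _ (K.val y' hy' hby)).trans ?_
  exact GrTwist.locMap_mk ..

include hj hL hP hPL hr hμ hOn in
/-- Two pieces are related by one function near every point. -/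
theorem compat_near (K K' : Piece u chart (chartL := chartL) μ lamn) (w : (RelProj.domQ u pL chartL).toScheme)
    (hw : r w ∈ nz chart K.U K.hU (K.a * K.b)) (hw' : r w ∈ nz chart K'.U K'.hU (K'.a * K'.b)) :
    ∃ (O : P.Opens) (hO : O ≤ nz chart K.U K.hU (K.a * K.b)) (hO' : O ≤ nz chart K'.U K'.hU (K'.a * K'.b))
      (cP : Γ(P, O)) (S : X.Opens) (hS : S ≤ K.XT) (hS' : S ≤ K'.XT) (cX : Γ(X, S))
      (hOS : r ⁻¹ᵁ O ≤ ((RelProj.domQ u pL chartL).ι ≫ pL) ⁻¹ᵁ S),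
      r w ∈ O ∧ resM On hO K.g = cP • resM On hO' K'.g ∧
        resM _ hS K.τ = cX • resM _ hS' K'.τ ∧
        ∀ (W : (RelProj.domQ u pL chartL).toScheme.Opens) (h : W ≤ r ⁻¹ᵁ O),
          r.appLE O W h cP = ((RelProj.domQ u pL chartL).ι ≫ pL).appLE S W (h.trans hOS) cX := by
  obtain ⟨V, hV, hzV, hVU, hVU', -, hbU, hbU'⟩ := exists_common_basic K.hU K'.hU ⊤
    (nz_le _ _ _ hw) (nz_le _ _ _ hw') (Set.mem_univ _)
  let a1 := 𝒮.res K.hU hV hVU K.a
  let b1 := 𝒮.res K.hU hV hVU K.b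
  let a2 := 𝒮.res K'.hU hV hVU' K'.a
  let b2 := 𝒮.res K'.hU hV hVU' K'.b
  let e := a1 * b1 * (a2 * b2)
  let num := a1 * b2 * (a1 * b2)
  let N := n + K.kb + K.kb + (n + K'.kb + K'.kb)
  have ha1 : a1 ∈ 𝒮.deg V hV (n + K.kb) := (𝒮.res K.hU hV hVU).map_mem K.ha
  have hb1 : b1 ∈ 𝒮.deg V hV K.kb := (𝒮.res K.hU hV hVU).map_mem K.hb
  have ha2 : a2 ∈ 𝒮.deg V hV (n + K'.kb) := (𝒮.res K'.hU hV hVU').map_mem K'.ha
  have hb2 : b2 ∈ 𝒮.deg V hV K'.kb := (𝒮.res K'.hU hV hVU').map_mem K'.hb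
  have he : e ∈ 𝒮.deg V hV N := SetLike.mul_mem_graded (SetLike.mul_mem_graded ha1 hb1) (SetLike.mul_mem_graded ha2 hb2)
  have hnum : num ∈ 𝒮.deg V hV (1 • N) := by
    rw [one_smul, show N = n + K.kb + K'.kb + (n + K.kb + K'.kb) by show _ + _ = _; omega]
    exact SetLike.mul_mem_graded (SetLike.mul_mem_graded ha1 hb2) (SetLike.mul_mem_graded ha1 hb2)
  have hN : 0 < N := lt_of_lt_of_le K.kb_pos ((Nat.le_add_left _ _).trans (Nat.le_add_right _ _))
  obtain ⟨S, hSo⟩ := exists_isSOpen u hPL hV (s := e) (chartL := chartL)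
  obtain ⟨cP, hcP, hpull⟩ := exists_function u hP hPL hr hV hN he hSo (Away.mk (𝒮.deg V hV) he 1 num hnum)
  let O := nz chart V hV e
  have hsub : ∀ z ∈ O, z ∈ nz chart K.U K.hU (K.a * K.b) ∧ z ∈ nz chart K'.U K'.hU (K'.a * K'.b) := by
    intro z hz
    have hzV' : p z ∈ V := nz_le V hV e hz
    obtain ⟨y, hy, rfl⟩ := hz
    refine ⟨(mem_nz_res_iff hP K.hU hV hVU _ hzV').1 ⟨y, ?_, rfl⟩,
      (mem_nz_res_iff hP K'.hU hV hVU' _ hzV').1 ⟨y, ?_, rfl⟩⟩
    · rw [map_mul]; exact fun h => hy (Ideal.mul_mem_right _ _ h)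
    · rw [map_mul]; exact fun h => hy (Ideal.mul_mem_left _ _ h)
  have hO : O ≤ nz chart K.U K.hU (K.a * K.b) := fun z hz => (hsub z hz).1
  have hO' : O ≤ nz chart K'.U K'.hU (K'.a * K'.b) := fun z hz => (hsub z hz).2
  have hSK : S ≤ K.XT ∧ S ≤ K'.XT := by
    have h0 : ∀ y ∈ S, y ∈ K.XT ∧ y ∈ K'.XT := fun y hy => by
      have hd : (inv pL) y ∈ RelProj.domQ u pL chartL :=
        mem_domQ_of_mem u hPL hV hN he hSo (by rw [pL_inv_apply]; exact hy)
      have hm := (mem_preimage_iff u hP hPL hr hV hN he hSo ⟨_, hd⟩).2 (by rw [pL_inv_apply]; exact hy)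
      have h1 := (mem_preimage_iff u hP hPL hr K.hU (by have := K.kb_pos; omega) (SetLike.mul_mem_graded K.ha K.hb)
        K.hXT ⟨_, hd⟩).1 (hO hm)
      have h2 := (mem_preimage_iff u hP hPL hr K'.hU (by have := K'.kb_pos; omega) (SetLike.mul_mem_graded K'.ha K'.hb)
        K'.hXT ⟨_, hd⟩).1 (hO' hm)
      rw [pL_inv_apply] at h1 h2
      exact ⟨h1, h2⟩
    exact ⟨fun y hy => (h0 y hy).1, fun y hy => (h0 y hy).2⟩
  let cX := (theta u hP hPL hr hV hN he hSo).hom (Away.mk (𝒮.deg V hV) he 1 num hnum)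
  have hrO : r w ∈ O := by
    obtain ⟨y, hy, hyz⟩ := (mem_nz_res_iff hP K.hU hV hVU _ hzV).2 hw
    obtain ⟨y', hy', hyz'⟩ := (mem_nz_res_iff hP K'.hU hV hVU' _ hzV).2 hw'
    obtain rfl := (RelProj.emb p chart V hV).isOpenEmbedding.injective (hyz.trans hyz'.symm)
    rw [map_mul] at hy hy'
    exact ⟨y, fun h => (y.isPrime.mem_or_mem h).elim hy hy', hyz⟩
  refine ⟨O, hO, hO', cP, S, hSK.1, hSK.2, cX, fun v hv => ?_, hrO, ?_, ?_, fun W h => hpull W h _⟩
  · exact (mem_preimage_iff u hP hPL hr hV hN he hSo v).1 hv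
  · refine (hOn.bijective V hV O (nz_le V hV e)).1 ?_
    rw [Scheme.Modules.Hom.app_smul, app_resM, app_resM]
    refine TwistLib.G.sectN_ext fun y => ?_
    have hye : e ∉ y.1.asHomogeneousIdeal.toIdeal := ((RelProj.emb p chart V hV).preimage_image_eq _).le y.2
    have hb1y : b1 ∉ y.1.asHomogeneousIdeal.toIdeal := fun h =>
      hye (Ideal.mul_mem_right _ _ (Ideal.mul_mem_left _ a1 h))
    have hb2y : b2 ∉ y.1.asHomogeneousIdeal.toIdeal := fun h =>
      hye (Ideal.mul_mem_left _ _ (Ideal.mul_mem_left _ a2 h))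
    refine (K.val_res u hP hOn hV hVU hbU y.1 (hO y.2) hb1y).trans ?_
    refine Eq.trans ?_ (TwistLib.G.oSmul_val _ _ y).symm
    refine Eq.trans ?_ (congrArg₂ (· * ·)
      (congrArg HomogeneousLocalization.val (congrFun (congrArg Subtype.val hcP) ⟨y.1, hye⟩)).symm
      (K'.val_res u hP hOn hV hVU' hbU' y.1 (hO' y.2) hb2y).symm)
    show Localization.mk a1 _ = Localization.mk num ⟨e ^ 1, _⟩ * Localization.mk a2 _
    rw [Localization.mk_mul]
    refine Localization.mk_eq_mk_iff.2 (Localization.r_iff_exists.2 ⟨1, ?_⟩)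
    simp only [Submonoid.coe_mul, Submonoid.coe_one, num, e]
    ring
  · refine (mu_cancel (n := n) hj u hPL hμ hV he hSo (S := S) le_rfl hL ?_).symm
    have h1 := congrArg (rs 𝒮L hSK.1) K.rel
    have h2 := congrArg (rs 𝒮L hSK.2) K'.rel
    rw [map_mul, appLE_rs, appLE_rs, rs_mu] at h1 h2
    have hc := (theta_mk_eq_iff hj hL u hP hPL hr hV hN he hSo 1 num hnum cX).1 rfl
    have r1 : ∀ v, (u.appLE V S hSo.le).hom (𝒮.res K.hU hV hVU v) =
        (u.appLE K.U S (hSK.1.trans K.hXT.le)).hom v := fun v => appLE_res u hVU hSo.le v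
    have r2 : ∀ v, (u.appLE V S hSo.le).hom (𝒮.res K'.hU hV hVU' v) =
        (u.appLE K'.U S (hSK.2.trans K'.hXT.le)).hom v := fun v => appLE_res u hVU' hSo.le v
    simp only [num, e, a1, a2, b1, b2, map_mul, pow_one, r1, r2] at hc ⊢
    rw [mu_smul, mul_assoc, mul_left_comm, hc, ← h1, ← h2]
    ring

include hj hL hP hPL hr hμ hOn in
theorem nonempty_iso [QuasiCompact q]
    (H : ∀ x : X, ∃ (U : Y.Opens) (_ : IsAffineOpen U), x ∈ q ⁻¹ᵁ U ∧ Function.Bijective (u.app U).hom ∧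
      CohB1.IsAmple ((Scheme.Modules.pullback (q ⁻¹ᵁ U).ι).obj L)) :
    Nonempty ((Scheme.Modules.pullback r).obj On ≅
      (Scheme.Modules.pullback ((RelProj.domQ u pL chartL).ι ≫ pL)).obj (CohB1.tensorPow L n)) := by
  let dom := RelProj.domQ u pL chartL
  let ρ := dom.ι ≫ pL
  have key : ∀ w : dom.toScheme, ∃ K : Piece u chart (chartL := chartL) μ lamn, ρ w ∈ K.XT := fun w => by
    obtain ⟨U, hU, hx, hu, hamp⟩ := H (ρ w)
    exact exists_piece hj hL u hPL hμ hU hOn hamp hu hx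
  choose K hK using key
  have hmem : ∀ (K : Piece u chart (chartL := chartL) μ lamn) (w : dom.toScheme),
      r w ∈ nz chart K.U K.hU (K.a * K.b) ↔ ρ w ∈ K.XT := fun K w =>
    mem_preimage_iff u hP hPL hr K.hU (by have := K.kb_pos; omega) (SetLike.mul_mem_graded K.ha K.hb) K.hXT w
  have hinv : PicF.IsInvertible ((Scheme.Modules.pullback r).obj On) :=
    PicTau27.isInvertible_pullback_of_local r fun w =>
      ⟨_, (hmem (K w) w).2 (hK w), nonempty_restrict_iso (K w).hg⟩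
  have hinv' := PicLoc.isInvertible_pullback ρ (isInvertible_tensorPow hL n)
  let W : dom.toScheme → dom.toScheme.Opens := fun w => r ⁻¹ᵁ nz chart (K w).U (K w).hU ((K w).a * (K w).b)
  have hWρ : ∀ w, W w ≤ ρ ⁻¹ᵁ (K w).XT := fun w v hv => (hmem (K w) v).1 hv
  have hW : iSup W = ⊤ := eq_top_iff.2 fun w _ => Opens.mem_iSup.2 ⟨w, (hmem (K w) w).2 (hK w)⟩
  obtain ⟨φ, -⟩ := exists_iso_of_gens W hW (fun w => pullSec r (K w).g)
    (fun w => isGen_pullSec' r (K w).hg hinv)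
    (fun w => resM _ (hWρ w) (pullSec ρ (K w).τ))
    (fun w => (isGen_pullSec' ρ (K w).hτ hinv').restrict (hWρ w))
    fun i k Wo hi hk c hc => by
      refine AmpleLib.sec_ext _ _ _ fun v hv => ?_
      obtain ⟨O, hO, hO', cP, S, hS, hS', cX, hOS, hvO, hgP, hgX, hf⟩ :=
        compat_near hj hL u hP hPL hr hμ hOn (K i) (K k) v (hi hv) (hk hv)
      let W' := Wo ⊓ r ⁻¹ᵁ O
      have hW'O : W' ≤ r ⁻¹ᵁ O := inf_le_right
      refine ⟨W', inf_le_left, ⟨hv, hvO⟩, ?_⟩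
      have hc' : res (inf_le_left : W' ≤ Wo) c = r.appLE O W' hW'O cP := by
        refine ((isGen_pullSec' r (K k).hg hinv).restrict (inf_le_left.trans hk : W' ≤ W k) W' le_rfl).1 ?_
        show res _ c • resM _ le_rfl (resM _ _ _) = r.appLE O W' hW'O cP • resM _ le_rfl (resM _ _ _)
        rw [resM_self]
        have h1 := congrArg (resM _ (inf_le_left : W' ≤ Wo)) hc
        rw [resM_resM, resM_smul, resM_resM] at h1
        have h2 := congrArg (fun t => resM _ hW'O (pullSec r t)) hgP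
        simp only [pullSec_smul, resM_smul, ← resM_pullSec, resM_resM] at h2
        exact (h1.symm.trans h2).trans (congrArg (· • _) (ConcreteCategory.congr_hom
          (show r.app O ≫ dom.toScheme.presheaf.map (homOfLE hW'O).op = r.appLE O W' hW'O from rfl) cP))
      have h3 := congrArg (fun t => resM _ (hW'O.trans hOS) (pullSec ρ t)) hgX
      simp only [pullSec_smul, resM_smul, ← resM_pullSec, resM_resM] at h3
      rw [resM_smul, resM_resM, resM_resM, resM_resM]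
      have h4 : dom.toScheme.presheaf.map (homOfLE (inf_le_left : W' ≤ Wo)).op c =
          dom.toScheme.presheaf.map (homOfLE (hW'O.trans hOS)).op (ρ.app S cX) :=
        (hc'.trans (hf W' hW'O)).trans rfl
      rw [h4]
      exact h3.trans (congrArg (_ • ·) (resM_resM _ _ _ _).symm)
  exact ⟨φ⟩

end Groth.Agent.RTwist13
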