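import Groth.Agent.RTwist13.Fn
import Groth.Agent.RTwist13.Frac
import Groth.Agent.AmpleLib.Generated

/-!
# Pieces: a pair of homogeneous elements gives generators of `O(n)` and of `L^n`
-/

set_option linter.unusedSectionVars false
set_option autoImplicit false
set_option backward.isDefEq.respectTransparency.types false
set_option maxHeartbeats 400000

universe u

open CategoryTheory CategoryTheory.Limits AlgebraicGeometry TopologicalSpace Opposite HomogeneousLocalization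
open scoped HomogeneousIdeal
open Groth.Agent.Coherent Groth.Agent.PicLib Groth.Agent.AmpleLib Groth.Agent.QProj

namespace Groth.Agent.RTwist13
open CAlgSmall.QBridge CAlgSmall.QAmple

variable {Y X P PL : Scheme.{u}} {q : X ⟶ Y} {L : X.Modules} {𝒮 : RelProj.QCGrAlg Y} {𝒮L : RelProj.QCGrAlg X}
  {j : L ⟶ 𝒮L.toModule} [Coh.IsQCoh L] (hj : RelProj.IsGrSymAlg L 𝒮L j) (hL : PicF.IsInvertible L)
  (u : RelProj.QGrHom q 𝒮 𝒮L) {p : P ⟶ Y}
  {chart : ∀ (U : Y.Opens) (hU : IsAffineOpen U), (((p ⁻¹ᵁ U : P.Opens) : Scheme.{u}) ≅ Proj (𝒮.deg U hU))}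
  {pL : PL ⟶ X}
  {chartL : ∀ (U : X.Opens) (hU : IsAffineOpen U), (((pL ⁻¹ᵁ U : PL.Opens) : Scheme.{u}) ≅ Proj (𝒮L.deg U hU))}
  (hPL : RelProj.IsRelProj 𝒮L pL chartL)

variable {n : ℕ} {μ : CohB1.tensorPow L n ⟶ 𝒮L.toModule}
  (hμ : ∀ (V : X.Opens) (c : Γ(X, V)) (g : Γ(L, V)), (show 𝒮L.presheaf.obj (op V) from μ.app V (c • powSec g n)) =
    (𝒮L.str.app (op V)).hom c * gn j g ^ n)

/-- The value of a section of a power in the algebra. -/
noncomputable abbrev mu (μ : CohB1.tensorPow L n ⟶ 𝒮L.toModule) {V : X.Opens} (b : Γ(CohB1.tensorPow L n, V)) :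
    𝒮L.presheaf.obj (op V) := μ.app V b

theorem rs_mu {U V : X.Opens} (h : V ≤ U) (b : Γ(CohB1.tensorPow L n, U)) :
    rs 𝒮L h (mu μ b) = mu μ (resM _ h b) := (app_resM μ h b).symm

theorem mu_smul {V : X.Opens} (c : Γ(X, V)) (b : Γ(CohB1.tensorPow L n, V)) :
    mu μ (c • b) = (𝒮L.str.app (op V)).hom c * mu μ b := Scheme.Modules.Hom.app_smul μ c b

theorem appLE_rs {U : Y.Opens} {S S' : X.Opens} (h : S ≤ q ⁻¹ᵁ U) (i : S' ≤ S) (v : 𝒮.presheaf.obj (op U)) :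
    rs 𝒮L i ((u.appLE U S h).hom v) = (u.appLE U S' (i.trans h)).hom v :=
  ConcreteCategory.congr_hom (u.appLE_map h i) v

theorem appLE_res {U V : Y.Opens} (i : V ≤ U) {S : X.Opens} (h : S ≤ q ⁻¹ᵁ V) (v : 𝒮.presheaf.obj (op U)) :
    (u.appLE V S h).hom ((𝒮.presheaf.map (homOfLE i).op).hom v) =
      (u.appLE U S (h.trans (q.preimage_mono i))).hom v :=
  ConcreteCategory.congr_hom (u.map_appLE i h) v

include hj hμ in
theorem mu_inj_gen {V : X.Opens} (hV : IsAffineOpen V) {g : Γ(L, V)} (hg : IsGen L V g)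
    {x y : Γ(CohB1.tensorPow L n, V)} (h : mu μ x = mu μ y) : x = y := by
  obtain ⟨c, hc⟩ := ((isGen_powSec hg n) V le_rfl).2 x
  obtain ⟨c', hc'⟩ := ((isGen_powSec hg n) V le_rfl).2 y
  simp only [resM_self] at hc hc'
  rw [← hc, ← hc'] at h ⊢
  rw [show c = c' from coef_inj hj hV hg ((hμ V c g).symm.trans (h.trans (hμ V c' g)))]

include hj hμ in
theorem mu_homog_gen {V : X.Opens} (hV : IsAffineOpen V) {g : Γ(L, V)} (hg : IsGen L V g)
    (x : Γ(CohB1.tensorPow L n, V)) : mu μ x ∈ 𝒮L.deg V hV n := by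
  obtain ⟨c, hc⟩ := ((isGen_powSec hg n) V le_rfl).2 x
  simp only [resM_self] at hc
  have := isHomog_term hj c g n V hV le_rfl
  rwa [rs_self, ← hμ V c g, hc] at this

variable {U : Y.Opens} (hU : IsAffineOpen U) [IsIso pL]

include hj hPL hμ in
/-- Two sections with the same product with a nonvanishing element are equal. -/
theorem mu_cancel {N : ℕ} {s : 𝒮.presheaf.obj (op U)} (hs : s ∈ 𝒮.deg U hU N) {XT : X.Opens}
    (h : IsSOpen u chartL U hU s XT) {S : X.Opens} (hSX : S ≤ XT) (hL : PicF.IsInvertible L)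
    {x y : Γ(CohB1.tensorPow L n, S)}
    (he : mu μ x * (u.appLE U S (hSX.trans h.le)).hom s = mu μ y * (u.appLE U S (hSX.trans h.le)).hom s) : x = y := by
  refine AmpleLib.sec_ext _ _ _ fun w hw => ?_
  obtain ⟨V, hV, hwV, hVS, g, hg⟩ := exists_gen_nhd hL hw
  refine ⟨V, hVS, hwV, mu_inj_gen hj hμ hV hg (sub_eq_zero.1 ?_)⟩
  refine QProj.eq_zero_of_pow_mul hj u hPL hU h hV hg (hVS.trans hSX) hs 1 n
    (sub_mem (mu_homog_gen hj hμ hV hg _) (mu_homog_gen hj hμ hV hg _)) ?_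
  have h1 := congrArg (rs 𝒮L hVS) he
  rw [map_mul, map_mul, appLE_rs, rs_mu, rs_mu] at h1
  rw [pow_one, mul_sub, sub_eq_zero]
  simp only [RelProj.QGrHom.gradedAt_apply]
  rw [mul_comm, h1, mul_comm]

include hj hPL hμ in
/-- The quotient of the images of `a` and `b` is a generating section of the power. -/
theorem exists_quot (hL : PicF.IsInvertible L) {ka kb : ℕ} (hab : ka = n + kb) {a b : 𝒮.presheaf.obj (op U)}
    (ha : a ∈ 𝒮.deg U hU ka) (hb : b ∈ 𝒮.deg U hU kb) {XT : X.Opens} (h : IsSOpen u chartL U hU (a * b) XT) :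
    ∃ τ : Γ(CohB1.tensorPow L n, XT), IsGen (CohB1.tensorPow L n) XT τ ∧
      mu μ τ * (u.appLE U XT h.le).hom b = (u.appLE U XT h.le).hom a := by
  choose V hV hxV hVX g hg using fun x : XT => exists_gen_nhd hL x.2
  have hle : ∀ x, V x ≤ q ⁻¹ᵁ U := fun x => (hVX x).trans h.le
  choose ca hca using fun x => exists_coef hj (isHomog_app u hU ha) (hV x) (hle x) (hg x)
  choose cb hcb using fun x => exists_coef hj (isHomog_app u hU hb) (hV x) (hle x) (hg x)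
  have hu : ∀ x, IsUnit (ca x * cb x) := fun x => by
    have h1 := inf_eq_basicOpen (n := ka + kb) hj u hPL hU h (V x) (hV x) (hle x) (g x) (hg x) (ca x * cb x) (by
      rw [map_mul, map_mul, map_mul, ← hca, ← hcb, pow_add]; ring)
    rw [inf_eq_right.2 (hVX x)] at h1
    refine X.toRingedSpace.isUnit_of_isUnit_germ (V x) _ fun y hy => ?_
    exact (Scheme.mem_basicOpen X _ y hy).mp (h1.le hy)
  let t : ∀ x, Γ(X, V x) := fun x => ca x * ↑((isUnit_of_mul_isUnit_right (hu x)).unit⁻¹)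
  have ht : ∀ x, mu μ (t x • powSec (g x) n) * (u.appLE U (V x) (hle x)).hom b = (u.appLE U (V x) (hle x)).hom a := by
    intro x
    show mu μ _ * rs 𝒮L (hle x) ((u.app U).hom b) = rs 𝒮L (hle x) ((u.app U).hom a)
    rw [← hca, ← hcb, show mu μ (t x • powSec (g x) n) = _ from hμ _ _ _, mul_mul_mul_comm, ← map_mul, ← pow_add, hab,
      show t x * cb x = ca x by rw [mul_assoc, IsUnit.val_inv_mul, mul_one]]
  obtain ⟨τ, hτ, -⟩ := TopCat.Sheaf.existsUnique_gluing' (X := X.toTopCat) (Coh.toAb (CohB1.tensorPow L n))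
    V XT (fun x => homOfLE (hVX x)) (fun x hx => Opens.mem_iSup.2 ⟨⟨x, hx⟩, hxV ⟨x, hx⟩⟩)
    (fun x => t x • powSec (g x) n) fun x y => by
      show resM _ (inf_le_left : V x ⊓ V y ≤ V x) _ = resM _ (inf_le_right : V x ⊓ V y ≤ V y) _
      refine mu_cancel hj u hPL hμ hU (SetLike.mul_mem_graded ha hb) h (inf_le_left.trans (hVX x)) hL ?_
      have hx := congrArg (rs 𝒮L (inf_le_left : V x ⊓ V y ≤ V x)) (ht x)
      have hy := congrArg (rs 𝒮L (inf_le_right : V x ⊓ V y ≤ V y)) (ht y)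
      rw [map_mul, appLE_rs, appLE_rs, rs_mu] at hx hy
      rw [map_mul, mul_left_comm, mul_left_comm _ ((u.appLE U _ _).hom a), hx, hy]
  have hτ' : ∀ x, resM _ (hVX x) τ = t x • powSec (g x) n := hτ
  refine ⟨τ, ?_, ext_local fun w hw => ⟨V ⟨w, hw⟩, hVX _, hxV _, ?_⟩⟩
  · refine isGen_of_cover V hVX (fun x hx => Opens.mem_iSup.2 ⟨⟨x, hx⟩, hxV ⟨x, hx⟩⟩) fun x => ?_
    rw [hτ' x]
    exact (isGen_powSec (hg x) n).smul_unit
      ((isUnit_of_mul_isUnit_left (hu x)).unit * (isUnit_of_mul_isUnit_right (hu x)).unit⁻¹)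
  · rw [map_mul, appLE_rs, appLE_rs, rs_mu, hτ']
    exact ht _

variable {On : P.Modules}
  {lamn : ∀ (U : Y.Opens) (hU : IsAffineOpen U),
    On ⟶ (Scheme.Modules.pushforward (RelProj.emb p chart U hU)).obj (GrTwist.twist (𝒮.deg U hU) (n : ℤ))}
  (hOn : RelProj.IsRelTwist 𝒮 p chart (n : ℤ) On lamn)

include hOn in
/-- The fraction `a / b` as a generator of `O_P(n)`. -/
theorem exists_frac {ka kb : ℕ} (hab : ka = n + kb) {a b : 𝒮.presheaf.obj (op U)}
    (ha : a ∈ 𝒮.deg U hU ka) (hb : b ∈ 𝒮.deg U hU kb) :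
    ∃ g : Γ(On, nz chart U hU (a * b)), IsGen On (nz chart U hU (a * b)) g ∧
      ∀ (y : ProjectiveSpectrum (𝒮.deg U hU)) (hy : (RelProj.emb p chart U hU).base y ∈ nz chart U hU (a * b))
        (hby : b ∉ y.asHomogeneousIdeal.toIdeal),
        GrTwist.val (V := RelProj.emb p chart U hU ⁻¹ᵁ nz chart U hU (a * b))
          ((lamn U hU).app _ g) ⟨y, hy⟩ = Localization.mk a ⟨b, hby⟩ := by
  have hpre : RelProj.emb p chart U hU ⁻¹ᵁ nz chart U hU (a * b) ≤ Proj.basicOpen (𝒮.deg U hU) (a * b) :=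
    ((RelProj.emb p chart U hU).preimage_image_eq _).le
  have hd : (ka : ℤ) = kb + (n : ℤ) := by omega
  obtain ⟨g, hg⟩ := (hOn.bijective U hU _ (nz_le U hU (a * b))).2
    (resM (GrTwist.twist (𝒮.deg U hU) (n : ℤ)) hpre (ab ha hb hd _ le_rfl))
  refine ⟨g, TwistLib.G.isGen_of_lam hOn hU (nz_le U hU _) (hg ▸ (isGen_ab ha hb hd).restrict hpre), ?_⟩
  intro y hy hby
  erw [hg]
  rfl

variable (chart lamn) (μ) in
/-- A piece. -/
structure Piece where
  /-- the affine open -/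
  U : Y.Opens
  hU : IsAffineOpen U
  /-- the degree of the denominator -/
  kb : ℕ
  kb_pos : 0 < kb
  /-- the numerator -/
  a : 𝒮.presheaf.obj (op U)
  ha : a ∈ 𝒮.deg U hU (n + kb)
  /-- the denominator -/
  b : 𝒮.presheaf.obj (op U)
  hb : b ∈ 𝒮.deg U hU kb
  /-- the open of the source -/
  XT : X.Opens
  hXT : IsSOpen u chartL U hU (a * b) XT
  /-- the generator of `O(n)` -/
  g : Γ(On, nz chart U hU (a * b))
  hg : IsGen On (nz chart U hU (a * b)) g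
  val : ∀ (y : ProjectiveSpectrum (𝒮.deg U hU)) (hy : (RelProj.emb p chart U hU).base y ∈ nz chart U hU (a * b))
    (hby : b ∉ y.asHomogeneousIdeal.toIdeal),
    GrTwist.val (V := RelProj.emb p chart U hU ⁻¹ᵁ nz chart U hU (a * b))
      ((lamn U hU).app _ g) ⟨y, hy⟩ = Localization.mk a ⟨b, hby⟩
  /-- the generator of the power -/
  τ : Γ(CohB1.tensorPow L n, XT)
  hτ : IsGen (CohB1.tensorPow L n) XT τ
  rel : mu μ τ * (u.appLE U XT hXT.le).hom b = (u.appLE U XT hXT.le).hom a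

include hj hL hPL hμ hOn hU in
/-- Relative ampleness gives a piece at every point. -/
theorem exists_piece [QuasiCompact q] (hamp : CohB1.IsAmple ((Scheme.Modules.pullback (q ⁻¹ᵁ U).ι).obj L))
    (hu : Function.Bijective (u.app U).hom) {x : X} (hx : x ∈ q ⁻¹ᵁ U) :
    ∃ K : Piece u chart (chartL := chartL) μ lamn, x ∈ K.XT := by
  obtain ⟨N, hN⟩ := eventually_exists_mem_glocus hamp isInvertible_structureModule
  obtain ⟨d, hd, s, hs, XS, hXS, hxS, -⟩ := exists_affine_sOpen hj hL u hPL hU hamp hu hx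
  let m := n + (N + 1) * d
  have hm : N ≤ m := (Nat.le_succ N).trans ((Nat.le_mul_of_pos_right _ hd).trans (Nat.le_add_left _ _))
  obtain ⟨w, hw⟩ := hN m hm ⟨x, hx⟩
  let b' := (unitTensorIso (CohB1.tensorPow ((Scheme.Modules.pullback (q ⁻¹ᵁ U).ι).obj L) m)).hom.app ⊤ w
  have hxb : (⟨x, hx⟩ : (q ⁻¹ᵁ U).toScheme) ∈ glocus _ b' := (glocus_map_iso _ w).ge hw
  obtain ⟨e, -⟩ := exists_pullPowIso (q ⁻¹ᵁ U).ι hL m
  obtain ⟨ν, hν, hhom, -⟩ := exists_powEquiv hj hL m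
  obtain ⟨c, hc⟩ := (bijective_pullSec_of_le (q ⁻¹ᵁ U).ι (CohB1.tensorPow L m) (V := q ⁻¹ᵁ U)
    (Scheme.Opens.opensRange_ι _).ge).2 (resM _ le_top (e.inv.app ⊤ b'))
  obtain ⟨a, ha'⟩ := hu.2 (show 𝒮L.presheaf.obj (op (q ⁻¹ᵁ U)) from ν.app _ c)
  have ha := deg_of_app u hU hu.1 (n := m) (ha' ▸ hhom _ c)
  obtain ⟨XA, hXA⟩ := exists_isSOpen u hPL hU (s := a) (chartL := chartL)
  have h1 : glocus _ (resM _ (Scheme.Opens.ι_preimage_self _).ge (pullSec (q ⁻¹ᵁ U).ι c)) = (q ⁻¹ᵁ U).ι ⁻¹ᵁ XA := by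
    refine glocus_pullSec_eq (isInvertible_tensorPow hL m) c _ XA fun y hy => ?_
    obtain ⟨V, hV, hyV, hVW, g, hg⟩ := exists_gen_nhd hL hy
    refine ⟨V, hVW, _, isGen_powSec hg m, hyV, inf_eq_basicOpen (n := m) hj u hPL hU hXA V hV hVW g hg _ ?_⟩
    rw [← hν, ha']
    have h1 := (isGen_powSec hg m).coef_spec le_rfl (resM _ hVW c)
    rw [resM_self] at h1
    rw [h1]
    exact app_resM ν hVW c
  have h2 : glocus _ b' = (q ⁻¹ᵁ U).ι ⁻¹ᵁ XA := by
    rw [← h1, hc, resM_resM, resM_self, ← glocus_map_iso e]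
    congr 1
    show b' = (e.inv ≫ e.hom).app ⊤ b'
    rw [e.inv_hom_id]
    rfl
  have hxA : x ∈ XA := h2.le hxb
  have hb := SetLike.pow_mem_graded (A := 𝒮.deg U hU) (N + 1) hs
  rw [smul_eq_mul] at hb
  obtain ⟨XT, hXT⟩ := exists_isSOpen u hPL hU (s := a * s ^ (N + 1)) (chartL := chartL)
  obtain ⟨τ, hτ, hrel⟩ := exists_quot hj u hPL hμ hU hL (n := n) (ka := m) rfl ha hb hXT
  obtain ⟨g, hg, hval⟩ := exists_frac hU hOn (ka := m) rfl ha hb
  refine ⟨⟨U, hU, (N + 1) * d, Nat.mul_pos N.succ_pos hd, a, ha, _, hb, XT, hXT, g, hg, hval, τ, hτ, hrel⟩, ?_⟩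
  obtain ⟨V, hV, hxV, hVW, -⟩ := exists_gen_nhd hL (W := q ⁻¹ᵁ U) hx
  have hz : pL ((inv pL) x) ∈ V := by rw [pL_inv_apply]; exact hxV
  have hA := (hXA.mem_iff V hV hVW _ hz).1 (by rw [pL_inv_apply]; exact hxA)
  have hB := (hXS.mem_iff V hV hVW _ hz).1 (by rw [pL_inv_apply]; exact hxS)
  have := (hXT.mem_iff V hV hVW _ hz).2 ?_
  · rwa [pL_inv_apply] at this
  obtain ⟨y, hy, hyz⟩ := hA
  obtain ⟨y', hy', hy'z⟩ := hB
  obtain rfl := (RelProj.emb pL chartL V hV).isOpenEmbedding.injective (hyz.trans hy'z.symm)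
  refine ⟨y, fun hmem => ?_, hyz⟩
  change u.gradedAt U hU V hV hVW (a * s ^ (N + 1)) ∈ y.asHomogeneousIdeal.toIdeal at hmem
  rw [map_mul, map_pow] at hmem
  exact (y.isPrime.mem_or_mem hmem).elim hy fun h => hy' (y.isPrime.mem_of_pow_mem _ h)

end Groth.Agent.RTwist13
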